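import Groth.Agent.FinDecomp.Modules
import Groth.Agent.FlatBC6.AffZero
import Groth.Agent.S10927
import Groth.Agent.QCoh.LocFree
import Groth.Agent.GenSub.Points
import Groth.Agent.Lib.AVDual

/-!
# The square of an isogeny with reduced fibre product
-/

set_option autoImplicit false
set_option backward.isDefEq.respectTransparency false
set_option backward.isDefEq.respectTransparency.types false
set_option linter.style.haveILetI false
set_option maxHeartbeats 1000000

universe u

open CategoryTheory CategoryTheory.Limits MonoidalCategory CartesianMonoidalCategory MonObj GrpObj AlgebraicGeometry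

noncomputable section

namespace Groth.Agent.FinDecomp

variable {k : Type u} [Field k] [IsAlgClosed k]
  {A B : Over (Spec (CommRingCat.of k))} [GrpObj A] [GrpObj B] (π : A ⟶ B) [IsMonHom π]

theorem comp_hom_one {T : Over (Spec (CommRingCat.of k))} : (1 : T ⟶ A) ≫ π = 1 := MonObj.one_comp π

/-- The action through a homomorphism by left translations. -/
def homAction : AlgGrp.Action A B where
  act := (fst A B ≫ π) * snd A B
  one_act := by
    rw [MonObj.comp_mul]
    simp only [whiskerRight_fst_assoc, whiskerRight_snd]
    rw [show η[A] ≫ π = η[B] from IsMonHom.one_hom π]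
    rw [show fst (𝟙_ _) B ≫ η[B] = (1 : 𝟙_ _ ⊗ B ⟶ B) by
      rw [Subsingleton.elim (fst (𝟙_ _) B) (toUnit _)]; rfl]
    rw [_root_.one_mul]
    exact (leftUnitor_hom _).symm
  mul_act := by
    rw [MonObj.comp_mul]
    simp only [whiskerRight_fst_assoc, whiskerRight_snd]
    rw [MonObj.mul_eq_mul (M := A), MonObj.mul_comp, MonObj.comp_mul, MonObj.comp_mul, MonObj.comp_mul]
    rw [← Category.assoc (α_ A A B).hom (A ◁ _)]
    simp [_root_.mul_assoc, MonObj.comp_mul]

theorem smooth_of_surjective [CharZero k] [IsProper A.hom] [Smooth A.hom] [GeometricallyConnected A.hom]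
    [IsProper B.hom] [Smooth B.hom] [GeometricallyConnected B.hom] 
    (hsurj : Surjective π.left) : Smooth π.left := by
  haveI := AVDual.geometricallyIntegral_of_smooth A
  haveI := AVDual.geometricallyIntegral_of_smooth B
  haveI : IsIntegral A.left := GeometricallyIntegral.isIntegral_of_subsingleton A.hom
  haveI : IsIntegral B.left := GeometricallyIntegral.isIntegral_of_subsingleton B.hom
  have hpts : ∀ x : 𝟙_ (Over (Spec (CommRingCat.of k))) ⟶ B,
      ∃ a : 𝟙_ (Over (Spec (CommRingCat.of k))) ⟶ A, a ≫ π = x := by
    intro x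
    haveI := hsurj
    exact GenSub.exists_rat_lift (G := B) π x (π.left.surjective _)
  have h := Groth.Agent.S10927.result k A B (homAction π) (fun x x' => by
    obtain ⟨a, ha⟩ := hpts (x' * x⁻¹)
    refine ⟨a, ?_⟩
    show lift a x ≫ ((fst A B ≫ π) * snd A B) = x'
    rw [MonObj.comp_mul, lift_fst_assoc, lift_snd, ha, _root_.mul_assoc, _root_.inv_mul_cancel, _root_.mul_one]) 1
  have e : (homAction π).orbitMap 1 = π := by
    show lift (𝟙 A) (toUnit A ≫ 1) ≫ ((fst A B ≫ π) * snd A B) = π
    rw [MonObj.comp_mul, lift_fst_assoc, lift_snd, MonObj.comp_one, _root_.mul_one, Category.id_comp]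
  rwa [e] at h

end Groth.Agent.FinDecomp
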