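import Groth.Agent.LineDesc.DisjointMod
import Groth.Agent.RGLib.YBlow

/-!
# Modules on a scheme covered by pairwise disjoint opens
-/

set_option autoImplicit false
set_option backward.isDefEq.respectTransparency false
set_option backward.isDefEq.respectTransparency.types false
set_option linter.style.haveILetI false
set_option maxHeartbeats 1000000

universe u

open CategoryTheory CategoryTheory.Limits AlgebraicGeometry TopologicalSpace

noncomputable section

namespace Groth.Agent.FinDecomp

variable {P : Scheme.{u}} {I : Type u} {A : I → Scheme.{u}} (j : ∀ i, A i ⟶ P) [∀ i, IsOpenImmersion (j i)]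
  (hcov : ∀ p : P, ∃ i, p ∈ (j i).opensRange)
  (hdisj : ∀ i k, i ≠ k → Disjoint (j i).opensRange (j k).opensRange)

/-- The canonical map to the product of the restrictions. -/
def toProd (M : P.Modules) :
    M ⟶ ∏ᶜ fun k => (Scheme.Modules.pushforward (j k)).obj (M.restrict (j k)) :=
  Pi.lift fun k => (Scheme.Modules.restrictAdjunction (j k)).unit.app M

include hdisj in
theorem isIso_restrict_toProd (M : P.Modules) (i : I) :
    IsIso ((Scheme.Modules.restrictFunctor (j i)).map (toProd j M)) := by
  classical
  let F : I → P.Modules := fun k => (Scheme.Modules.pushforward (j k)).obj (M.restrict (j k))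
  let R := Scheme.Modules.restrictFunctor (j i)
  let G : I → (A i).Modules := fun k => R.obj (F k)
  let d : ∀ k, G i ⟶ G k := fun k => if h : i = k then eqToHom (congrArg G h) else 0
  haveI : IsIso (Pi.π G i) := ⟨Pi.lift d, Pi.hom_ext _ _ fun k => by
    by_cases h : i = k
    · subst h; simp [d]
    · exact (LineDesc.isZero_restrict j hdisj i k h _).eq_of_tgt _ _,
    by simp [d]⟩
  let e := PreservesProduct.iso R F
  have h1 : R.map (toProd j M) ≫ e.hom ≫ Pi.π G i
      = R.map ((Scheme.Modules.restrictAdjunction (j i)).unit.app M) := by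
    have h2 : e.hom ≫ Pi.π G i = R.map (Pi.π F i) := by
      simp [e, G]
    rw [h2, ← R.map_comp]
    simp [toProd, F]
  haveI hu : IsIso (R.map ((Scheme.Modules.restrictAdjunction (j i)).unit.app M)) := by
    have := (Scheme.Modules.restrictAdjunction (j i)).left_triangle_components M
    exact IsIso.of_isIso_fac_right this
  haveI : IsIso (R.map (toProd j M) ≫ e.hom ≫ Pi.π G i) := h1 ▸ hu
  exact IsIso.of_isIso_comp_right _ (e.hom ≫ Pi.π G i)

include hcov hdisj in
theorem isIso_toProd (M : P.Modules) : IsIso (toProd j M) := by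
  refine RGLib.YBlow.isIso_of_restrict_cover _ fun p => ?_
  obtain ⟨i, hi⟩ := hcov p
  refine ⟨(j i).opensRange, hi, ?_⟩
  haveI := isIso_restrict_toProd j hdisj M i
  let ι := (j i).opensRange.ι
  let e : ((j i).opensRange : Scheme.{u}) ≅ A i := (Scheme.Hom.isoOpensRange (j i)).symm
  have he : e.hom ≫ j i = ι := by
    rw [← Iso.eq_inv_comp]
    simp [e, ι]
  let φ : Scheme.Modules.restrictFunctor ι ≅
      Scheme.Modules.restrictFunctor (j i) ⋙ Scheme.Modules.restrictFunctor e.hom :=
    Scheme.Modules.restrictFunctorCongr he.symm ≪≫ Scheme.Modules.restrictFunctorComp _ _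
  exact (NatIso.isIso_map_iff φ (toProd j M)).2 (inferInstanceAs
    (IsIso ((Scheme.Modules.restrictFunctor e.hom).map ((Scheme.Modules.restrictFunctor (j i)).map (toProd j M)))))

end Groth.Agent.FinDecomp
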