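import Groth.Agent.FinDecomp.Isogeny
import Groth.Agent.GrpSchLib.SmoothReduced

/-!
# `A ×_B A` is a disjoint union of copies of `A`
-/

set_option autoImplicit false
set_option backward.isDefEq.respectTransparency false
set_option backward.isDefEq.respectTransparency.types false
set_option linter.style.haveILetI false
set_option maxHeartbeats 1000000

universe u

open CategoryTheory CategoryTheory.Limits MonoidalCategory CartesianMonoidalCategory MonObj GrpObj AlgebraicGeometry
open Groth.Agent.GrpFieldLib Topology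

noncomputable section

namespace Groth.Agent.FinDecomp

variable {k : Type u} [Field k] [IsAlgClosed k]
  {A B : Over (Spec (CommRingCat.of k))} [GrpObj A] [GrpObj B] (π : A ⟶ B) [IsMonHom π]

/-- Rational points of the kernel. -/
abbrev KerPt : Type u := {a : 𝟙_ (Over (Spec (CommRingCat.of k))) ⟶ A // a ≫ π = 1}

variable {π} in
/-- Translation by a point of the kernel. -/
def tr (a : KerPt π) : A ⟶ A := 𝟙 A * (toUnit A ≫ a.1)

theorem tr_comp (a : KerPt π) : tr a ≫ π = π := by
  simp [tr, MonObj.mul_comp, a.2, MonObj.comp_one]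

/-- The section of the fibre square given by a point of the kernel. -/
def sec (a : KerPt π) : A.left ⟶ pullback π.left π.left :=
  pullback.lift (tr a).left (𝟙 _) (by rw [← Over.comp_left, tr_comp, Category.id_comp])

@[reassoc (attr := simp)]
theorem sec_fst (a : KerPt π) : sec π a ≫ pullback.fst _ _ = (tr a).left := pullback.lift_fst ..

@[reassoc (attr := simp)]
theorem sec_snd (a : KerPt π) : sec π a ≫ pullback.snd _ _ = 𝟙 _ := pullback.lift_snd ..

variable [IsProper A.hom] [Smooth A.hom] [GeometricallyConnected A.hom]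
  [IsProper B.hom] [Smooth B.hom] [GeometricallyConnected B.hom] [IsFinite π.left]

theorem finite_kerPt : Finite (KerPt π) := by
  haveI : IsSeparated A.hom := inferInstance
  let e : B.left := SolvBound.pt (1 : 𝟙_ (Over (Spec (CommRingCat.of k))) ⟶ B)
  haveI := (IsFinite.finite_preimage_singleton π.left e).to_subtype
  let F : KerPt π → ↥(π.left ⁻¹' {e}) := fun a => ⟨SolvBound.pt a.1, by
    show π.left (SolvBound.pt a.1) = e
    rw [← SolvBound.pt_comp, a.2]⟩
  exact Finite.of_injective F fun a b h => Subtype.ext (SolvBound.pt_injective (congrArg Subtype.val h))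

/-- The fibre square over `k`. -/
def sq : Over (Spec (CommRingCat.of k)) := Over.mk (pullback.snd π.left π.left ≫ A.hom)

/-- First projection. -/
def sq₁ : sq π ⟶ A := Over.homMk (pullback.fst _ _) (by
  show pullback.fst π.left π.left ≫ A.hom = pullback.snd π.left π.left ≫ A.hom
  rw [← Over.w π, pullback.condition_assoc])

/-- Second projection. -/
def sq₂ : sq π ⟶ A := Over.homMk (pullback.snd _ _) rfl

/-- The section over `k`. -/
def secO (a : KerPt π) : A ⟶ sq π := Over.homMk (sec π a) (by
  show sec π a ≫ pullback.snd π.left π.left ≫ A.hom = A.hom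
  rw [sec_snd_assoc])

theorem secO_sq₁ (a : KerPt π) : secO π a ≫ sq₁ π = tr a := Over.OverMorphism.ext (sec_fst π a)

theorem secO_sq₂ (a : KerPt π) : secO π a ≫ sq₂ π = 𝟙 _ := Over.OverMorphism.ext (sec_snd π a)

theorem comp_tr (y : 𝟙_ (Over (Spec (CommRingCat.of k))) ⟶ A) (a : KerPt π) : y ≫ tr a = y * a.1 := by
  rw [tr, MonObj.comp_mul, Category.comp_id, SolvBound.comp_const]

theorem lft_sq : LocallyOfFiniteType (sq π).hom :=
  inferInstanceAs (LocallyOfFiniteType (pullback.snd π.left π.left ≫ A.hom))

theorem jacobson_sq : JacobsonSpace (pullback π.left π.left : Scheme.{u}) :=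
  haveI := lft_sq π
  LocallyOfFiniteType.jacobsonSpace (sq π).hom

theorem isClosedImmersion_sec (a : KerPt π) : IsClosedImmersion (sec π a) := by
  haveI : IsClosedImmersion (sec π a ≫ pullback.snd π.left π.left) := by rw [sec_snd]; infer_instance
  exact IsClosedImmersion.of_comp _ (pullback.snd π.left π.left)

theorem exists_mem_range (p : (pullback π.left π.left : Scheme.{u})) : ∃ a, p ∈ Set.range (sec π a) := by
  haveI := finite_kerPt π
  haveI := lft_sq π
  haveI := jacobson_sq π
  have hU : IsClosed (⋃ a, Set.range (sec π a)) :=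
    isClosed_iUnion_of_finite fun a => ((isClosedImmersion_sec π a).base_closed).isClosed_range
  have hsub : closedPoints (pullback π.left π.left : Scheme.{u}) ⊆ ⋃ a, Set.range (sec π a) := fun q hq => by
    obtain ⟨r, hr⟩ := SolvBound.exists_pt_eq (H := sq π) (x := q) hq
    have hz : sq₁ π ≫ π = sq₂ π ≫ π := Over.OverMorphism.ext pullback.condition
    have ha : ((r ≫ sq₂ π)⁻¹ * (r ≫ sq₁ π)) ≫ π = 1 := by
      simp only [MonObj.mul_comp, GrpObj.inv_comp, Category.assoc, hz, _root_.inv_mul_cancel]
    have hr' : (r ≫ sq₂ π) ≫ secO π ⟨_, ha⟩ = r := by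
      apply Over.OverMorphism.ext
      apply pullback.hom_ext
      · show (((r ≫ sq₂ π) ≫ secO π ⟨_, ha⟩) ≫ sq₁ π).left = (r ≫ sq₁ π).left
        rw [Category.assoc _ (secO π _), secO_sq₁, comp_tr, _root_.mul_inv_cancel_left]
      · show (((r ≫ sq₂ π) ≫ secO π ⟨_, ha⟩) ≫ sq₂ π).left = (r ≫ sq₂ π).left
        rw [Category.assoc _ (secO π _), secO_sq₂, Category.comp_id]
    refine Set.mem_iUnion.2 ⟨⟨_, ha⟩, SolvBound.pt (r ≫ sq₂ π), ?_⟩
    rw [← hr, ← congrArg SolvBound.pt hr', SolvBound.pt_comp _ (secO π _)]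
    rfl
  have := closure_minimal hsub hU
  rw [closure_closedPoints] at this
  exact Set.mem_iUnion.1 (this (Set.mem_univ p))

theorem disjoint_range {a b : KerPt π} (hab : a ≠ b) :
    Disjoint (Set.range (sec π a)) (Set.range (sec π b)) := by
  haveI := lft_sq π
  haveI := jacobson_sq π
  rw [Set.disjoint_iff_inter_eq_empty]
  by_contra hne
  obtain ⟨p, ⟨⟨u₀, hu⟩, v₀, hv⟩, hp⟩ := nonempty_inter_closedPoints
    (Set.nonempty_iff_ne_empty.2 hne)
    (((isClosedImmersion_sec π a).base_closed.isClosed_range.inter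
      (isClosedImmersion_sec π b).base_closed.isClosed_range).isLocallyClosed)
  have hu0 : IsClosed {u₀} := by
    rw [← (isClosedImmersion_sec π a).base_closed.injective.preimage_image {u₀}, Set.image_singleton]
    exact (show IsClosed {sec π a u₀} from hu.symm ▸ hp).preimage (sec π a).continuous
  obtain ⟨y, hy⟩ := SolvBound.exists_pt_eq (H := A) hu0
  have huv : u₀ = v₀ := by
    have h1 := congrArg (pullback.snd π.left π.left) (hu.trans hv.symm)
    rw [← Scheme.Hom.comp_apply, ← Scheme.Hom.comp_apply, sec_snd, sec_snd] at h1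
    exact h1
  have h2 : y ≫ secO π a = y ≫ secO π b := SolvBound.pt_injective (H := sq π) (by
    rw [SolvBound.pt_comp, SolvBound.pt_comp, hy]
    show sec π a u₀ = sec π b u₀
    rw [hu, huv, hv])
  have h3 : y * a.1 = y * b.1 := by
    rw [← comp_tr π y a, ← comp_tr π y b, ← secO_sq₁, ← secO_sq₁, ← Category.assoc, h2, Category.assoc]
  exact hab (Subtype.ext (_root_.mul_left_cancel h3))

theorem isOpenImmersion_sec [CharZero k] (hsurj : Surjective π.left) (a : KerPt π) :
    IsOpenImmersion (sec π a) := by
  haveI := finite_kerPt π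
  haveI := smooth_of_surjective π hsurj
  haveI : Smooth (sq π).hom := inferInstanceAs (Smooth (pullback.snd π.left π.left ≫ A.hom))
  haveI : IsReduced (pullback π.left π.left) := GrpSchLib.isReduced_of_smooth_field (sq π).hom
  have ho : IsOpen (Set.range (sec π a)) := by
    have : Set.range (sec π a) = (⋃ b : {b // b ≠ a}, Set.range (sec π b.1))ᶜ := by
      ext p
      simp only [Set.mem_compl_iff, Set.mem_iUnion, not_exists]
      refine ⟨fun hp b hb => Set.disjoint_left.1 (disjoint_range π b.2) hb hp, fun h => ?_⟩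
      obtain ⟨b, hb⟩ := exists_mem_range π p
      by_cases hba : b = a
      · exact hba ▸ hb
      · exact (h ⟨b, hba⟩ hb).elim
    rw [this]
    haveI : Finite {b : KerPt π // b ≠ a} := Finite.of_injective (fun b => b.1) Subtype.val_injective
    have hcl : ∀ b : {b : KerPt π // b ≠ a}, IsClosed (Set.range (sec π b.1)) := fun b =>
      IsClosedEmbedding.isClosed_range (isClosedImmersion_sec π b.1).base_closed
    exact (isClosed_iUnion_of_finite hcl).isOpen_compl
  obtain ⟨U, hU⟩ : ∃ U : (pullback π.left π.left : Scheme.{u}).Opens,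
      (U : Set (pullback π.left π.left : Scheme.{u})) = Set.range (sec π a) :=
    ⟨TopologicalSpace.Opens.mk (Set.range (sec π a)) ho, rfl⟩
  have hr : Set.range (sec π a) ⊆ Set.range U.ι := by
    rw [Scheme.Opens.range_ι]
    exact hU.ge
  obtain ⟨g, hg⟩ : ∃ g : A.left ⟶ (U : Scheme.{u}), g ≫ U.ι = sec π a :=
    ⟨IsOpenImmersion.lift U.ι (sec π a) hr, IsOpenImmersion.lift_fac _ _ _⟩
  haveI : IsClosedImmersion g := by
    haveI : IsClosedImmersion (g ≫ U.ι) := hg ▸ isClosedImmersion_sec π a
    exact IsClosedImmersion.of_comp g U.ι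
  haveI : Surjective g := ⟨fun q => by
    obtain ⟨u₀, hu⟩ := hU.le q.2
    refine ⟨u₀, U.ι.isOpenEmbedding.injective ?_⟩
    rw [← Scheme.Hom.comp_apply, hg]
    exact hu⟩
  haveI : IsIso g := isIso_of_isClosedImmersion_of_surjective g
  rw [← hg]
  infer_instance

end Groth.Agent.FinDecomp
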